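import Groth.Agent.Lib.FSchInd28.Span
import Groth.Agent.H30.FSch.CohCons
import Groth.Agent.H30.ColimCoh.Sections
import Mathlib.CategoryTheory.ObjectProperty.Ind

/-!
# Ind-coherent modules on a locally Noetherian formal scheme are quasi-coherent
-/

set_option autoImplicit false
set_option linter.style.haveILetI false

universe u

open CategoryTheory CategoryTheory.Limits AlgebraicGeometry TopologicalSpace Opposite
open Groth.Agent.H30 Groth.Agent.H30.RealLimSec

namespace Groth.Agent.Lib.FSchInd28.Ind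

variable {𝔛 : FSch.Sys.{u}} (h𝔛 : 𝔛.IsLocNoethFormal) {F : FSch.ModF 𝔛 h𝔛.1}
  {J : Type u} [SmallCategory J] [IsFiltered J] (pres : ColimitPresentation J F)
  (hp : ∀ j, FSch.IsCohF 𝔛 h𝔛.1 (pres.diag.obj j)) {V W : (𝔛.X 0).Opens}

/-- The map to the colimit on sections. -/
noncomputable abbrev ιs (j : J) (V : (𝔛.X 0).Opens) :
    sec h𝔛.1 (pres.diag.obj j) V →ₗ[Levels.A 𝔛 h𝔛.1 V] sec h𝔛.1 F V :=
  secMap h𝔛.1 (pres.ι.app j) V

lemma ιs_map {j k : J} (a : j ⟶ k) (V : (𝔛.X 0).Opens) (x : sec h𝔛.1 (pres.diag.obj j) V) :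
    ιs h𝔛 pres k V (secMap h𝔛.1 (pres.diag.map a) V x) = ιs h𝔛 pres j V x :=
  congrArg (fun φ : pres.diag.obj j ⟶ F => secMap h𝔛.1 φ V x)
    (show pres.diag.map a ≫ pres.ι.app k = pres.ι.app j from
      (pres.ι.naturality a).trans (Category.comp_id _))

lemma resF_secMap {A B : FSch.ModF 𝔛 h𝔛.1} (φ : A ⟶ B) (e : V ≤ W) (x : sec h𝔛.1 A W) :
    secMap h𝔛.1 φ V (CohPres.resF h𝔛.1 A e x) = CohPres.resF h𝔛.1 B e (secMap h𝔛.1 φ W x) :=
  LevelAdj.secMap_map φ e x

variable [PrespectralSpace (𝔛.X 0)] [QuasiSeparatedSpace (𝔛.X 0)]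

theorem exists_rep (hV : IsAffineOpen V) (s : sec h𝔛.1 F V) :
    ∃ (j : J) (t : sec h𝔛.1 (pres.diag.obj j) V), ιs h𝔛 pres j V t = s := by
  obtain ⟨j, t, ht⟩ := ColimCoh.Sections.exists_rep
    (isColimitOfPreserves (SheafOfModules.toSheaf.{u} (ModSite.ringSh (𝔛.Osh h𝔛.1))) pres.isColimit)
    hV.isCompact (show (((SheafOfModules.toSheaf.{u} _).mapCocone pres.cocone).pt).obj.obj (op V) from s)
  exact ⟨j, t, ht⟩

theorem exists_zero (hV : IsAffineOpen V) (j : J) (t : sec h𝔛.1 (pres.diag.obj j) V)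
    (h : ιs h𝔛 pres j V t = 0) :
    ∃ (k : J) (a : j ⟶ k), secMap h𝔛.1 (pres.diag.map a) V t = 0 := by
  obtain ⟨k, a, ha⟩ := ColimCoh.Sections.exists_eq_zero
    (isColimitOfPreserves (SheafOfModules.toSheaf.{u} (ModSite.ringSh (𝔛.Osh h𝔛.1))) pres.isColimit)
    hV.isCompact j t h
  exact ⟨k, a, ha⟩

include hp in
/-- Sections over an affine open generate over smaller affine opens. -/
theorem gen (hW : IsAffineOpen W) (hV : IsAffineOpen V) (e : V ≤ W) (s : sec h𝔛.1 F V) :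
    ∃ (n : ℕ) (g : Fin n → sec h𝔛.1 F W) (a : Fin n → Levels.A 𝔛 h𝔛.1 V),
      s = ∑ i, a i • CohPres.resF h𝔛.1 F e (g i) := by
  obtain ⟨j, t, rfl⟩ := exists_rep h𝔛 pres hV s
  obtain ⟨n, f, hf⟩ := CohCons.exists_fin_gens h𝔛 hW (hp j)
  obtain ⟨a, rfl⟩ := CohExact.gen_of_le h𝔛 (hp j) hW f hf hV e t
  refine ⟨n, fun i => ιs h𝔛 pres j W (f i), a, ?_⟩
  rw [map_sum]
  exact Finset.sum_congr rfl fun i _ =>
    ((map_smul _ _ _).trans (congrArg (a i • ·) (resF_secMap h𝔛 _ e (f i))))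

omit [PrespectralSpace (𝔛.X 0)] in
/-- Finitely many sections over an affine open come from one stage. -/
theorem exists_common (hW : IsAffineOpen W) [PrespectralSpace (𝔛.X 0)] {n : ℕ}
    (g : Fin n → sec h𝔛.1 F W) :
    ∃ (j : J) (τ : Fin n → sec h𝔛.1 (pres.diag.obj j) W), ∀ i, ιs h𝔛 pres j W (τ i) = g i := by
  classical
  have hr := fun i => exists_rep h𝔛 pres hW (g i)
  let jj := fun i => (hr i).choose
  obtain ⟨S, hS⟩ := IsFiltered.sup_objs_exists (Finset.univ.image jj)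
  have hS' : ∀ i, Nonempty (jj i ⟶ S) := fun i =>
    hS (Finset.mem_image_of_mem jj (Finset.mem_univ i))
  refine ⟨S, fun i => secMap h𝔛.1 (pres.diag.map (hS' i).some) W (hr i).choose_spec.choose, fun i => ?_⟩
  rw [ιs_map]
  exact (hr i).choose_spec.choose_spec

include hp in
/-- Relations over smaller affine opens come from relations over the affine open. -/
theorem rel (hW : IsAffineOpen W) (hV : IsAffineOpen V) (e : V ≤ W) {n : ℕ}
    (g : Fin n → sec h𝔛.1 F W) (a : Fin n → Levels.A 𝔛 h𝔛.1 V)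
    (ha : ∑ i, a i • CohPres.resF h𝔛.1 F e (g i) = 0) :
    ∃ (m : ℕ) (r : Fin m → Fin n → Levels.A 𝔛 h𝔛.1 W) (d : Fin m → Levels.A 𝔛 h𝔛.1 V),
      (∀ l, ∑ i, r l i • g i = 0) ∧ ∀ i, a i = ∑ l, d l * CohPres.resA h𝔛.1 e (r l i) := by
  obtain ⟨j, τ, hτ⟩ := exists_common h𝔛 pres hW g
  obtain ⟨k, α, hk⟩ := exists_zero h𝔛 pres hV j (∑ i, a i • CohPres.resF h𝔛.1 _ e (τ i)) (by
    rw [map_sum, ← ha]
    exact Finset.sum_congr rfl fun i _ => (map_smul _ _ _).trans
      (congrArg (a i • ·) ((resF_secMap h𝔛 _ e (τ i)).trans (congrArg _ (hτ i)))))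
  let τ' := fun i => secMap h𝔛.1 (pres.diag.map α) W (τ i)
  have hτ' : ∀ i, ιs h𝔛 pres k W (τ' i) = g i := fun i => (ιs_map h𝔛 pres α W (τ i)).trans (hτ i)
  have hk' : ∑ i, a i • CohPres.resF h𝔛.1 _ e (τ' i) = 0 := by
    rw [← hk, map_sum]
    exact Finset.sum_congr rfl fun i _ => ((map_smul _ _ _).trans
      (congrArg (a i • ·) (resF_secMap h𝔛 _ e (τ i)))).symm
  haveI := Levels.isNoetherianRing_A h𝔛 hW
  let ψ : (Fin n → Levels.A 𝔛 h𝔛.1 W) →ₗ[Levels.A 𝔛 h𝔛.1 W] sec h𝔛.1 (pres.diag.obj k) W :=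
    Fintype.linearCombination _ τ'
  have hψ : ∀ c, ψ c = ∑ i, c i • τ' i := fun c => Fintype.linearCombination_apply _ _ c
  obtain ⟨m, r, hr⟩ := Submodule.fg_iff_exists_fin_generating_family.1
    (IsNoetherian.noetherian (LinearMap.ker ψ))
  obtain ⟨d, hd⟩ := CohExact.rel_of_le h𝔛 (hp k) hW τ' r (fun c hc => by
    rw [← hψ, ← LinearMap.mem_ker, ← hr, Submodule.mem_span_range_iff_exists_fun] at hc
    obtain ⟨d, hd⟩ := hc
    exact ⟨d, fun i => by rw [← hd]; simp⟩) hV e a hk'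
  refine ⟨m, r, d, fun l => ?_, hd⟩
  have h0 : ∑ i, r l i • τ' i = 0 := by
    rw [← hψ, ← LinearMap.mem_ker, ← hr]
    exact Submodule.subset_span ⟨l, rfl⟩
  have h1 := congrArg (ιs h𝔛 pres k W) h0
  rw [map_sum, map_zero] at h1
  refine (Finset.sum_congr rfl fun i _ => ?_).trans h1
  exact ((map_smul _ _ _).trans (congrArg (r l i • ·) (hτ' i))).symm

include hp in
/-- An ind-coherent module is presented over every affine open. -/
theorem nonempty_presentation (hW : IsAffineOpen W) :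
    Nonempty (SheafOfModules.over F W).Presentation := by
  classical
  refine Span.nonempty_presentation F (fun Z hZ s z hz => ?_) (fun Z hZ b hb z hz => ?_)
  · obtain ⟨V, hV, hzV, hVZ⟩ := Opens.isBasis_iff_nbhd.1 (CohPres.isBasis_affine (𝔛.X 0)) hz
    obtain ⟨n, g, a, ha⟩ := gen h𝔛 pres hp hW hV (hVZ.trans hZ) (CohPres.resF h𝔛.1 F hVZ s)
    refine ⟨V, hVZ, hzV, ∑ i, Finsupp.single (g i) (a i), ?_⟩
    refine (map_sum (Span.comb F (hVZ.trans hZ)) _ _).trans (Eq.trans ?_ ha.symm)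
    exact Finset.sum_congr rfl fun i _ =>
      Finsupp.linearCombination_single (R := (ModSite.ringSh (𝔛.Osh h𝔛.1)).obj.obj (op V)) (a i) (g i)
  · obtain ⟨V, hV, hzV, hVZ⟩ := Opens.isBasis_iff_nbhd.1 (CohPres.isBasis_affine (𝔛.X 0)) hz
    let n := b.support.card
    let σ : Fin n ≃ b.support := b.support.equivFin.symm
    let g : Fin n → sec h𝔛.1 F W := fun i => (σ i).1
    let a : Fin n → Levels.A 𝔛 h𝔛.1 V := fun i => CohPres.resA h𝔛.1 hVZ (b (σ i).1)
    have ha : ∑ i, a i • CohPres.resF h𝔛.1 F (hVZ.trans hZ) (g i) = 0 := by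
      refine Eq.trans ?_ ((congrArg (CohPres.resF h𝔛.1 F hVZ) hb).trans (map_zero _))
      rw [Span.comb, Finsupp.linearCombination_apply, Finsupp.sum, ← Finset.sum_coe_sort b.support,
        ← σ.sum_comp]
      refine Eq.trans ?_ (map_sum (CohPres.resF h𝔛.1 F hVZ) _ _).symm
      refine Finset.sum_congr rfl fun i _ => ?_
      refine Eq.trans ?_ (CohPres.resF_smul h𝔛.1 F hVZ _ _).symm
      exact congrArg (a i • ·) (PresSh.res_res F hZ hVZ (g i)).symm
    obtain ⟨m, r, d, hr, hd⟩ := rel h𝔛 pres hp hW hV (hVZ.trans hZ) g a ha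
    let Rl : Fin m → (F.val.obj (op W) →₀ (ModSite.ringSh (𝔛.Osh h𝔛.1)).obj.obj (op W)) := fun l =>
      ∑ i, Finsupp.single (g i) (r l i)
    let dd : Fin m → (ModSite.ringSh (𝔛.Osh h𝔛.1)).obj.obj (op V) := d
    refine ⟨V, hVZ, hzV, ∑ l, Finsupp.single (Rl l) (dd l), fun x hx => ?_, ?_⟩
    · obtain ⟨l, -, hl⟩ := Finset.mem_biUnion.1 (Finsupp.support_finsetSum hx)
      obtain rfl : x = Rl l := Finset.mem_singleton.1 (Finsupp.support_single_subset hl)
      refine (map_sum (Span.comb F (le_refl W)) _ _).trans (Eq.trans ?_ (hr l))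
      refine Finset.sum_congr rfl fun i _ => ?_
      refine (Finsupp.linearCombination_single (R := (ModSite.ringSh (𝔛.Osh h𝔛.1)).obj.obj (op W))
        (r l i) (g i)).trans (congrArg (r l i • ·) ?_)
      exact ConcreteCategory.congr_hom ((congrArg (fun φ => F.val.presheaf.map φ)
        (Subsingleton.elim (homOfLE (le_refl W)).op (𝟙 _))).trans (F.val.presheaf.map_id (op W))) (g i)
    · refine Eq.trans ?_ (Finsupp.sum_finsetSum_index
        (h := fun r a => a • Span.resC (hVZ.trans hZ) r)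
        (fun r => zero_smul _ (Span.resC (hVZ.trans hZ) r))
        (fun r a a' => add_smul a a' (Span.resC (hVZ.trans hZ) r)))
      have hsum : ∀ l, (Finsupp.single (Rl l) (dd l)).sum (fun (r : F.val.obj (op W) →₀ (ModSite.ringSh (𝔛.Osh h𝔛.1)).obj.obj (op W))
          (a : (ModSite.ringSh (𝔛.Osh h𝔛.1)).obj.obj (op V)) => a • Span.resC (hVZ.trans hZ) r) =
          dd l • Span.resC (hVZ.trans hZ) (Rl l) := fun l =>
        Finsupp.sum_single_index (h := fun (r : F.val.obj (op W) →₀ (ModSite.ringSh (𝔛.Osh h𝔛.1)).obj.obj (op W))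
          (a : (ModSite.ringSh (𝔛.Osh h𝔛.1)).obj.obj (op V)) => a • Span.resC (hVZ.trans hZ) r)
          (zero_smul _ (Span.resC (hVZ.trans hZ) (Rl l)))
      simp only [hsum]
      ext t
      rw [Finsupp.finsetSum_apply]
      simp only [Finsupp.smul_apply, Span.resC, Finsupp.mapRange_apply, smul_eq_mul]
      have hR : ∀ l, Rl l t = ∑ i, (if g i = t then r l i else 0) := fun l => by
        simp only [Rl, Finsupp.finsetSum_apply, Finsupp.single_apply]
        exact Finset.sum_congr rfl fun i _ => by split_ifs <;> rfl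
      by_cases ht : t ∈ b.support
      · obtain ⟨i, hi⟩ := σ.surjective ⟨t, ht⟩
        have hti : g i = t := congrArg Subtype.val hi
        have hone : ∀ l, Rl l t = r l i := fun l => by
          rw [hR, Finset.sum_eq_single i, if_pos hti]
          · intro i' _ hne
            exact if_neg fun h => hne (σ.injective (Subtype.ext (h.trans hti.symm)))
          · exact fun h => absurd (Finset.mem_univ i) h
        simp only [hone]
        rw [← hti]
        exact hd i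
      · have hzero : ∀ l, Rl l t = 0 := fun l => by
          rw [hR]
          exact Finset.sum_eq_zero fun i _ => if_neg fun h : g i = t => ht (h ▸ (σ i).2)
        simp only [hzero, Finsupp.notMem_support_iff.1 ht, map_zero, mul_zero, Finset.sum_const_zero]

include h𝔛 in
/-- Ind-coherent modules are quasi-coherent. -/
theorem isQuasicoherent_of_ind
    (hF : (ObjectProperty.ind.{u} fun 𝔊 : FSch.ModF 𝔛 h𝔛.1 => FSch.IsCohF 𝔛 h𝔛.1 𝔊) F) :
    SheafOfModules.IsQuasicoherent.{u} F := by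
  obtain ⟨K, _, _, P, hP⟩ := hF
  refine Span.isQuasicoherent_of_span F fun x => ?_
  obtain ⟨W, hW, hxW⟩ := CohCons.exists_affine x
  exact ⟨W, hxW, nonempty_presentation h𝔛 P hP hW⟩

end Groth.Agent.Lib.FSchInd28.Ind
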