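import Groth.Agent.H30.FSch.PresSh
import Groth.Agent.H30.FSch.PresGen

/-!
# Quasi-coherence from local spans of sections over a fixed open
-/

set_option autoImplicit false
set_option linter.style.haveILetI false

universe u

open CategoryTheory CategoryTheory.Limits Opposite TopologicalSpace
open Groth.Agent.Lib.EtMod

namespace Groth.Agent.Lib.FSchInd28.Span

open Groth.Agent.H30

variable {X : TopCat.{u}} {R : Sheaf (Opens.grothendieckTopology X) RingCat.{u}} {W : Opens X}

/-- A sieve of the localised site is covering if it contains a neighbourhood of every point. -/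
theorem mem_over_of_locally (Z : Over W) (S : Sieve Z)
    (h : ∀ z ∈ Z.left, ∃ (Z' : Over W) (g : Z' ⟶ Z), z ∈ Z'.left ∧ S g) :
    S ∈ (Opens.grothendieckTopology X).over W Z := by
  rw [GrothendieckTopology.mem_over_iff]
  intro z hz
  obtain ⟨Z', g, hzZ', hg⟩ := h z hz
  refine ⟨Z'.left, g.left, ?_, hzZ'⟩
  rw [Sieve.overEquiv_iff]
  have e : Over.mk (g.left ≫ Z.hom) = Z' := by
    rw [Over.w g]
    rfl
  have ej : (Over.homMk g.left : Over.mk (g.left ≫ Z.hom) ⟶ Z) = eqToHom e ≫ g :=
    Over.OverMorphism.ext (Subsingleton.elim _ _)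
  rw [ej]
  exact S.downward_closed hg _

/-- A section over the terminal object as a global section. -/
noncomputable def secOf (A : SheafOfModules.{u} (R.over W)) (t : A.val.obj (op (Over.mk (𝟙 W)))) :
    A.sections :=
  A.val.sectionsMk (fun Z => A.val.map (Over.homMk Z.unop.hom : Z.unop ⟶ Over.mk (𝟙 W)).op t)
    fun Y Z g => by
      refine (PresheafOfModules.map_comp_apply A.val _ g t).symm.trans ?_
      have e : (Over.homMk Y.unop.hom : Y.unop ⟶ Over.mk (𝟙 W)).op ≫ g =
          (Over.homMk Z.unop.hom : Z.unop ⟶ Over.mk (𝟙 W)).op :=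
        Quiver.Hom.unop_inj (Over.OverMorphism.ext (Subsingleton.elim _ _))
      exact congrArg (fun φ => (A.val.presheaf.map φ).hom t) e

/-- Global sections which span locally generate. -/
theorem epi_of_span (A : SheafOfModules.{u} (R.over W)) {I : Type u} (s : I → A.sections)
    (h : ∀ (Z : Over W) (m : A.val.obj (op Z)), ∀ z ∈ Z.left,
      ∃ (Z' : Over W) (g : Z' ⟶ Z), z ∈ Z'.left ∧ ∃ b : I →₀ (R.over W).obj.obj (op Z'),
        Finsupp.linearCombination _ (fun i => PresheafOfModules.sections.eval (s i) (op Z')) b =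
          A.val.map g.op m) :
    Epi (A.freeHomEquiv.symm s) := by
  refine PresSh.epi_of_locally _ fun Z m z hz => ?_
  obtain ⟨Z', g, hzZ', b, hb⟩ := h Z m z hz
  refine ⟨Z', g, hzZ', SubSheaf.combFree Z' b, ?_⟩
  rw [SubSheaf.freeHomEquiv_app_combFree, Equiv.apply_symm_apply]
  exact hb

/-- A section of a free module is locally a combination of the basis. -/
theorem exists_local_combFree {I : Type u} (Z : Over W)
    (m : (SheafOfModules.free (R := R.over W) I).val.obj (op Z)) (z : X) (hz : z ∈ Z.left) :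
    ∃ (Z₁ : Over W) (g : Z₁ ⟶ Z), z ∈ Z₁.left ∧ ∃ b : I →₀ (R.over W).obj.obj (op Z₁),
      SubSheaf.combFree Z₁ b = (SheafOfModules.free (R := R.over W) I).val.map g.op m := by
  haveI : Epi ((SheafOfModules.free (R := R.over W) I).freeHomEquiv.symm SheafOfModules.freeSection) := by
    rw [show (SheafOfModules.free (R := R.over W) I).freeHomEquiv.symm SheafOfModules.freeSection = 𝟙 _ from
      (SheafOfModules.free (R := R.over W) I).freeHomEquiv.symm_apply_apply (𝟙 _)]
    infer_instance
  have hS := (GrothendieckTopology.mem_over_iff _ _).1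
    (SubSheaf.span_mem_of_epi (SheafOfModules.freeSection (R := R.over W) (I := I)) m)
  obtain ⟨V, g, hg, hzV⟩ := hS z hz
  rw [Sieve.overEquiv_iff] at hg
  refine ⟨Over.mk (g ≫ Z.hom), Over.homMk g rfl, hzV, LinearMap.mem_range.1 ?_⟩
  exact (Finsupp.range_linearCombination _).ge hg

/-- A combination over `W` killed by the generators comes from the kernel. -/
theorem exists_kernel_section {A : SheafOfModules.{u} (R.over W)} (σ : A.GeneratingSections)
    (r : σ.I →₀ (R.over W).obj.obj (op (Over.mk (𝟙 W)))) :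
    ∃ t : (kernel σ.π).val.obj (op (Over.mk (𝟙 W))), PresGen.lc σ (Over.mk (𝟙 W)) r = 0 →
      (kernel.ι σ.π).val.app (op (Over.mk (𝟙 W))) t = SubSheaf.combFree (Over.mk (𝟙 W)) r := by
  by_cases hr : PresGen.lc σ (Over.mk (𝟙 W)) r = 0
  · obtain ⟨t, ht⟩ := SubSheaf.exists_kernel_lift σ.π (SubSheaf.combFree (Over.mk (𝟙 W)) r)
      ((PresGen.π_combFree σ _ _).trans hr)
    exact ⟨t, fun _ => ht⟩
  · exact ⟨0, fun h => absurd h hr⟩

/-- The inclusion of a combination of lifted relations. -/
theorem ι_lc_secOf {A : SheafOfModules.{u} (R.over W)} (σ : A.GeneratingSections) (Z' : Over W)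
    (T : (σ.I →₀ (R.over W).obj.obj (op (Over.mk (𝟙 W)))) → (kernel σ.π).val.obj (op (Over.mk (𝟙 W))))
    (d : (σ.I →₀ (R.over W).obj.obj (op (Over.mk (𝟙 W)))) →₀ (R.over W).obj.obj (op Z'))
    (hT : ∀ r ∈ d.support,
      (kernel.ι σ.π).val.app (op (Over.mk (𝟙 W))) (T r) = SubSheaf.combFree (Over.mk (𝟙 W)) r) :
    (kernel.ι σ.π).val.app (op Z') (Finsupp.linearCombination _
        (fun t => PresheafOfModules.sections.eval (secOf (kernel σ.π) t) (op Z'))
        (∑ r ∈ d.support, Finsupp.single (T r) (d r))) =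
      SubSheaf.combFree Z'
        (d.sum fun r a => a • PresGen.resC (Over.homMk Z'.hom : Z' ⟶ Over.mk (𝟙 W)) r) := by
  let L := Finsupp.linearCombination ((R.over W).obj.obj (op Z'))
    fun t => PresheafOfModules.sections.eval (secOf (kernel σ.π) t) (op Z')
  let ι' := ((kernel.ι σ.π).val.app (op Z')).hom
  have h1 : ι' (L (∑ r ∈ d.support, Finsupp.single (T r) (d r))) =
      ∑ r ∈ d.support, ι' (L (Finsupp.single (T r) (d r))) :=
    (congrArg ι' (map_sum L _ _)).trans (map_sum ι' _ _)
  refine h1.trans (Eq.trans ?_ (map_sum (SubSheaf.combFree Z') _ _).symm)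
  refine Finset.sum_congr rfl fun r hr => ?_
  refine Eq.trans ?_ (map_smul (SubSheaf.combFree Z') _ _).symm
  refine (congrArg ι' (Finsupp.linearCombination_single ((R.over W).obj.obj (op Z')) (d r) (T r))).trans ?_
  refine (ι'.map_smul _ _).trans (congrArg (d r • ·) ?_)
  refine (PresheafOfModules.naturality_apply (kernel.ι σ.π).val
    (Over.homMk Z'.hom : Z' ⟶ Over.mk (𝟙 W)).op (T r)).trans ?_
  refine (congrArg _ (hT r hr)).trans ?_
  exact PresGen.combFree_map _ _

/-- The kernel of a locally spanning family is generated by its sections over `W`. -/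
theorem epi_kernel_span {A : SheafOfModules.{u} (R.over W)} (σ : A.GeneratingSections)
    (exact : ∀ (Z : Over W) (b : σ.I →₀ (R.over W).obj.obj (op Z)), PresGen.lc σ Z b = 0 →
      ∀ z ∈ Z.left, ∃ (Z' : Over W) (g : Z' ⟶ Z), z ∈ Z'.left ∧
        ∃ d : (σ.I →₀ (R.over W).obj.obj (op (Over.mk (𝟙 W)))) →₀ (R.over W).obj.obj (op Z'),
          (∀ r ∈ d.support, PresGen.lc σ (Over.mk (𝟙 W)) r = 0) ∧
          PresGen.resC g b =
            d.sum fun r a => a • PresGen.resC (Over.homMk Z'.hom : Z' ⟶ Over.mk (𝟙 W)) r) :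
    Epi ((kernel σ.π).freeHomEquiv.symm (secOf (kernel σ.π))) := by
  classical
  refine epi_of_span _ _ fun Z k z hz => ?_
  obtain ⟨Z₁, g₁, hzZ₁, b, hb⟩ := exists_local_combFree Z ((kernel.ι σ.π).val.app (op Z) k) z hz
  have h0 : PresGen.lc σ Z₁ b = 0 := by
    refine (PresGen.π_combFree σ Z₁ b).symm.trans ?_
    rw [hb, ← PresheafOfModules.naturality_apply]
    exact congrArg (fun φ : kernel σ.π ⟶ A => φ.val.app (op Z₁) ((kernel σ.π).val.map g₁.op k))
      (kernel.condition σ.π)
  have H := exact Z₁ b h0 z hzZ₁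
  clear exact
  obtain ⟨Z', H⟩ := H
  obtain ⟨g, H⟩ := H
  obtain ⟨hzZ', H⟩ := H
  obtain ⟨d, H⟩ := H
  obtain ⟨hd0, hd⟩ := H
  let T := fun r => (exists_kernel_section σ r).choose
  refine ⟨Z', g ≫ g₁, hzZ', ∑ r ∈ d.support, Finsupp.single (T r) (d r), ?_⟩
  refine PresSh.app_injective (kernel.ι σ.π) Z' ?_
  refine (ι_lc_secOf σ Z' T d fun r hr => (exists_kernel_section σ r).choose_spec (hd0 r hr)).trans ?_
  refine (congrArg (SubSheaf.combFree Z') hd).symm.trans ?_
  refine (PresGen.combFree_map g b).symm.trans ?_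
  refine ((congrArg _ hb).trans ?_).trans
    (PresheafOfModules.naturality_apply (kernel.ι σ.π).val (g ≫ g₁).op k).symm
  exact (PresheafOfModules.map_comp_apply _ g₁.op g.op _).symm

/-- The combination of restrictions of sections over `W`. -/
noncomputable def comb (M : SheafOfModules.{u} R) {Z : Opens X} (e : Z ≤ W) :
    (M.val.obj (op W) →₀ R.obj.obj (op Z)) →ₗ[R.obj.obj (op Z)] M.val.obj (op Z) :=
  Finsupp.linearCombination _ fun t => PresSh.res M e t

/-- Restriction of coefficients. -/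
noncomputable def resC {I : Type u} {Z V : Opens X} (e : V ≤ Z) (b : I →₀ R.obj.obj (op Z)) :
    I →₀ R.obj.obj (op V) :=
  Finsupp.mapRange (PresSh.resR R e) (map_zero (R.obj.map (homOfLE e).op).hom) b

/-- A presentation from local spans. -/
theorem nonempty_presentation (M : SheafOfModules.{u} R)
    (gen : ∀ (Z : Opens X) (hZ : Z ≤ W) (s : M.val.obj (op Z)), ∀ z ∈ Z,
      ∃ (V : Opens X) (hVZ : V ≤ Z) (_ : z ∈ V) (b : M.val.obj (op W) →₀ R.obj.obj (op V)),
        comb M (hVZ.trans hZ) b = PresSh.res M hVZ s)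
    (exact : ∀ (Z : Opens X) (hZ : Z ≤ W) (b : M.val.obj (op W) →₀ R.obj.obj (op Z)),
      comb M hZ b = 0 → ∀ z ∈ Z, ∃ (V : Opens X) (hVZ : V ≤ Z) (_ : z ∈ V)
        (d : (M.val.obj (op W) →₀ R.obj.obj (op W)) →₀ R.obj.obj (op V)),
        (∀ r ∈ d.support, comb M le_rfl r = 0) ∧
          resC hVZ b = d.sum fun r a => a • resC (hVZ.trans hZ) r) :
    Nonempty (M.over W).Presentation := by
  classical
  haveI hepi : Epi ((M.over W).freeHomEquiv.symm (PresSh.secOver M)) :=
    epi_of_span _ _ fun Z m z hz => by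
      obtain ⟨V, hVZ, hzV, b, hb⟩ := gen Z.left (leOfHom Z.hom) m z hz
      exact ⟨Over.mk (homOfLE (hVZ.trans (leOfHom Z.hom))),
        Over.homMk (homOfLE hVZ) (Subsingleton.elim _ _), hzV, b, hb⟩
  let σ : (M.over W).GeneratingSections :=
    { I := M.val.obj (op W), s := PresSh.secOver M, epi := hepi }
  refine ⟨{ generators := σ, relations := { I := (kernel σ.π).val.obj (op (Over.mk (𝟙 W))),
                                            s := secOf _, epi := epi_kernel_span σ ?_ } }⟩
  intro Z b hb z hz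
  obtain ⟨V, hVZ, hzV, d, hd0, hd⟩ := exact Z.left (leOfHom Z.hom) b hb z hz
  exact ⟨Over.mk (homOfLE (hVZ.trans (leOfHom Z.hom))),
    Over.homMk (homOfLE hVZ) (Subsingleton.elim _ _), hzV, d, hd0, hd⟩

/-- Quasi-coherence from local spans. -/
theorem isQuasicoherent_of_span (M : SheafOfModules.{u} R)
    (h : ∀ x : X, ∃ W : Opens X, x ∈ W ∧ Nonempty (M.over W).Presentation) :
    M.IsQuasicoherent := by
  choose W hx hp using h
  let q : SheafOfModules.QuasicoherentData.{u} (C := Opens X) (R := R) M :=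
    { I := X
      X := W
      coversTop := (Opens.coversTop_iff _ _).mpr
        (eq_top_iff.mpr fun x _ => Opens.mem_iSup.mpr ⟨x, hx x⟩)
      presentation := fun x => (hp x).some }
  exact SheafOfModules.IsQuasicoherent.mk (M := M) (R := R) ⟨q⟩

end Groth.Agent.Lib.FSchInd28.Span
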